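import Mathlib
import Cfsg.Agent.H129.SuzT
import Cfsg.Agent.BpExc.AsmN_m3
import Cfsg.Agent.FastGrp
import Cfsg.Agent.Prune
set_option linter.all false
prune_inst 0x7f00000000000000000000000000000000000000000000000000000000000000000000000000000000000000000000000000000000000000000000000000000000000000000000000000000000000000003fffffffffffffffffffffffffffbeffbdffffffff
open scoped Cfsg.Agent.FastGrp

-- part: H343/PG/FfNum
section
/-!
# Zero patterns of the roots of `F₄` modulo 3 and 5 (helper343, for S3635)

The weights of the 26-dimensional modules of `F₄` in characteristic 2 (zero twice and the short roots, zero twice and the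
halves of the long roots), coordinates modulo 15; `fin_check` : no `(a, b, c, d)`, nonzero modulo 3 and modulo 5, vanishes
modulo 3, modulo 5 and modulo 15 equally often on both.
-/

set_option autoImplicit false

namespace Cfsg.Agent.H343.PG.Ff

/-- a linear form at a weight -/
def ev (v : ℕ × ℕ × ℕ × ℕ) (a b c d : ℕ) : ℕ := v.1 * a + v.2.1 * b + v.2.2.1 * c + v.2.2.2 * d

/-- the short weights -/
def SL : List (ℕ × ℕ × ℕ × ℕ) :=
  [(13, 12, 13, 14), (14, 12, 13, 14), (14, 13, 13, 14), (14, 13, 14, 14), (14, 13, 14, 0), (14, 14, 14, 14), (14, 14,
  14, 0), (14, 14, 0, 0), (14, 0, 0, 0), (0, 14, 14, 14), (0, 14, 14, 0), (0, 14, 0, 0), (0, 0, 0, 0), (0, 0, 0, 0),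
  (0, 1, 0, 0), (0, 1, 1, 0), (0, 1, 1, 1), (1, 0, 0, 0), (1, 1, 0, 0), (1, 1, 1, 0), (1, 1, 1, 1), (1, 2, 1, 0),
  (1, 2, 1, 1), (1, 2, 2, 1), (1, 3, 2, 1), (2, 3, 2, 1)]

/-- the long weights -/
def LL : List (ℕ × ℕ × ℕ × ℕ) :=
  [(13, 11, 12, 13), (13, 11, 12, 14), (13, 11, 13, 14), (13, 13, 13, 14), (0, 13, 13, 14), (13, 13, 14, 14), (0, 13,
  14, 14), (0, 0, 14, 14), (0, 0, 0, 14), (13, 13, 14, 0), (0, 13, 14, 0), (0, 0, 14, 0), (0, 0, 0, 0), (0, 0, 0,
  0), (0, 0, 1, 0), (0, 2, 1, 0), (2, 2, 1, 0), (0, 0, 0, 1), (0, 0, 1, 1), (0, 2, 1, 1), (2, 2, 1, 1), (0, 2, 2,
  1), (2, 2, 2, 1), (2, 4, 2, 1), (2, 4, 3, 1), (2, 4, 3, 2)]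

/-- the zero pattern -/
def zs (M : List (ℕ × ℕ × ℕ × ℕ)) (n a b c d : ℕ) : List Bool := M.map fun v => ev v a b c d % n == 0

/-- the number of zeros -/
def ct (l : List Bool) : ℕ := l.count true

/-- the common zeros -/
def both (l l' : List Bool) : List Bool := List.zipWith (fun x y => x && y) l l'

/-- the patterns modulo 3 -/
def A3 : List (List Bool × List Bool) := [
  ([false, false, false, false, false, false, false, true, true, false, false, true, true, true, true, false, false,
  true, true, false, false, false, false, false, false, false], [true, true, false, false, false, false, false,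
  false, true, false, false, false, true, true, false, false, false, true, false, false, false, false, false, false,
  true, true]),
  ([false, false, false, false, false, false, true, false, true, false, true, false, true, true, false, true, false,
  true, false, true, false, false, false, false, false, false], [true, false, true, false, false, false, false,
  true, false, false, false, false, true, true, false, false, false, false, true, false, false, false, false, true,
  false, true]),
  ([false, false, false, false, false, true, false, false, true, true, false, false, true, true, false, false, true,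
  true, false, false, true, false, false, false, false, false], [false, true, true, false, false, false, false,
  false, false, false, false, true, true, true, true, false, false, false, false, false, false, false, false, true,
  true, false]),
  ([false, false, false, false, true, false, false, true, false, false, true, false, true, true, false, true, false,
  false, true, false, false, true, false, false, false, false], [true, false, false, true, false, false, true,
  false, false, false, false, false, true, true, false, false, false, false, false, true, false, false, true, false,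
  false, true]),
  ([false, false, false, false, true, false, true, false, false, false, false, true, true, true, true, false, false,
  false, false, true, false, true, false, false, false, false], [true, false, false, false, true, true, false,
  false, false, false, false, false, true, true, false, false, false, false, false, false, true, true, false, false,
  false, true]),
  ([false, false, false, true, false, false, false, true, false, true, false, false, true, true, false, false, true,
  false, true, false, false, false, true, false, false, false], [false, true, false, true, false, false, false,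
  false, false, false, true, false, true, true, false, true, false, false, false, false, false, false, true, false,
  true, false]),
  ([false, false, false, true, false, true, false, false, false, false, false, true, true, true, true, false, false,
  false, false, false, true, false, true, false, false, false], [false, true, false, false, true, false, false,
  false, false, true, false, false, true, true, false, false, true, false, false, false, false, true, false, false,
  true, false]),
  ([false, false, true, false, false, false, true, false, false, true, false, false, true, true, false, false, true,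
  false, false, true, false, false, false, true, false, false], [false, false, true, false, false, true, false,
  false, false, false, true, false, true, true, false, true, false, false, false, false, true, false, false, true,
  false, false]),
  ([false, false, true, false, false, true, false, false, false, false, true, false, true, true, false, true, false,
  false, false, false, true, false, false, true, false, false], [false, false, true, false, false, false, true,
  false, false, true, false, false, true, true, false, false, true, false, false, true, false, false, false, true,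
  false, false]),
  ([false, true, false, false, true, false, false, false, false, true, false, false, true, true, false, false, true,
  false, false, false, false, true, false, false, true, false], [false, false, false, true, false, true, false,
  false, false, false, false, true, true, true, true, false, false, false, false, false, true, false, true, false,
  false, false]),
  ([false, true, false, true, false, false, false, false, false, false, true, false, true, true, false, true, false,
  false, false, false, false, false, true, false, true, false], [false, false, false, true, false, false, false,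
  true, false, true, false, false, true, true, false, false, true, false, true, false, false, false, true, false,
  false, false]),
  ([false, true, true, false, false, false, false, false, false, false, false, true, true, true, true, false, false,
  false, false, false, false, false, false, true, true, false], [false, false, false, false, false, true, false,
  false, true, true, false, false, true, true, false, false, true, true, false, false, true, false, false, false,
  false, false]),
  ([true, false, false, false, true, true, false, false, false, false, false, false, true, true, false, false, false,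
  false, false, false, true, true, false, false, false, true], [false, false, false, false, true, false, true,
  false, false, false, false, true, true, true, true, false, false, false, false, true, false, true, false, false,
  false, false]),
  ([true, false, false, true, false, false, true, false, false, false, false, false, true, true, false, false, false,
  false, false, true, false, false, true, false, false, true], [false, false, false, false, true, false, false,
  true, false, false, true, false, true, true, false, true, false, false, true, false, false, true, false, false,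
  false, false]),
  ([true, false, true, false, false, false, false, true, false, false, false, false, true, true, false, false, false,
  false, true, false, false, false, false, true, false, true], [false, false, false, false, false, false, true,
  false, true, false, true, false, true, true, false, true, false, true, false, true, false, false, false, false,
  false, false]),
  ([true, true, false, false, false, false, false, false, true, false, false, false, true, true, false, false, false,
  true, false, false, false, false, false, false, true, true], [false, false, false, false, false, false, false,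
  true, true, false, false, true, true, true, true, false, false, true, true, false, false, false, false, false,
  false, false])]

/-- the patterns modulo 5 -/
def B5 : List (List Bool × List Bool) := [
  ([false, false, false, false, false, false, false, false, false, false, true, true, true, true, true, true, false,
  false, false, false, false, false, false, false, false, false], [false, false, false, false, false, false, false,
  false, false, false, true, true, true, true, true, true, false, false, false, false, false, false, false, false,
  false, false]),
  ([false, false, false, false, false, false, false, false, false, true, false, true, true, true, true, false, true,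
  false, false, false, false, false, false, false, false, false], [false, false, false, false, false, false, true,
  true, false, false, false, false, true, true, false, false, false, false, true, true, false, false, false, false,
  false, false]),
  ([false, false, false, false, false, false, false, false, false, true, true, false, true, true, false, true, true,
  false, false, false, false, false, false, false, false, false], [false, false, false, false, true, false, false,
  false, true, false, false, false, true, true, false, false, false, true, false, false, false, true, false, false,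
  false, false]),
  ([false, false, false, false, false, false, true, true, false, false, false, false, true, true, false, false, false,
  false, true, true, false, false, false, false, false, false], [false, false, false, false, false, false, false,
  false, false, true, false, true, true, true, true, false, true, false, false, false, false, false, false, false,
  false, false]),
  ([false, false, false, false, false, true, false, true, false, false, false, false, true, true, false, false, false,
  false, true, false, true, false, false, false, false, false], [false, false, false, false, false, true, false,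
  true, false, false, false, false, true, true, false, false, false, false, true, false, true, false, false, false,
  false, false]),
  ([false, false, false, false, false, true, true, false, false, false, false, false, true, true, false, false, false,
  false, false, true, true, false, false, false, false, false], [false, false, false, true, false, false, false,
  false, true, false, false, false, true, true, false, false, false, true, false, false, false, false, true, false,
  false, false]),
  ([false, false, false, false, true, false, false, false, true, false, false, false, true, true, false, false, false,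
  true, false, false, false, true, false, false, false, false], [false, false, false, false, false, false, false,
  false, false, true, true, false, true, true, false, true, true, false, false, false, false, false, false, false,
  false, false]),
  ([false, false, false, true, false, false, false, false, true, false, false, false, true, true, false, false, false,
  true, false, false, false, false, true, false, false, false], [false, false, false, false, false, true, true,
  false, false, false, false, false, true, true, false, false, false, false, false, true, true, false, false, false,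
  false, false]),
  ([false, false, false, true, true, false, false, false, false, false, false, false, true, true, false, false, false,
  false, false, false, false, true, true, false, false, false], [false, false, true, false, false, false, false,
  false, true, false, false, false, true, true, false, false, false, true, false, false, false, false, false, true,
  false, false]),
  ([false, false, true, false, false, false, false, false, true, false, false, false, true, true, false, false, false,
  true, false, false, false, false, false, true, false, false], [false, false, false, true, true, false, false,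
  false, false, false, false, false, true, true, false, false, false, false, false, false, false, true, true, false,
  false, false]),
  ([false, false, true, false, true, false, false, false, false, false, false, false, true, true, false, false, false,
  false, false, false, false, true, false, true, false, false], [false, true, false, false, false, false, false,
  true, false, false, false, false, true, true, false, false, false, false, true, false, false, false, false, false,
  true, false]),
  ([false, false, true, true, false, false, false, false, false, false, false, false, true, true, false, false, false,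
  false, false, false, false, false, true, true, false, false], [true, false, false, false, false, false, false,
  false, false, false, false, true, true, true, true, false, false, false, false, false, false, false, false, false,
  false, true]),
  ([false, true, false, false, false, false, false, true, false, false, false, false, true, true, false, false, false,
  false, true, false, false, false, false, false, true, false], [false, false, true, false, true, false, false,
  false, false, false, false, false, true, true, false, false, false, false, false, false, false, true, false, true,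
  false, false]),
  ([false, true, false, false, false, false, true, false, false, false, false, false, true, true, false, false, false,
  false, false, true, false, false, false, false, true, false], [false, true, false, false, false, false, true,
  false, false, false, false, false, true, true, false, false, false, false, false, true, false, false, false,
  false, true, false]),
  ([false, true, false, false, false, true, false, false, false, false, false, false, true, true, false, false, false,
  false, false, false, true, false, false, false, true, false], [true, false, false, false, false, false, false,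
  false, false, false, true, false, true, true, false, true, false, false, false, false, false, false, false, false,
  false, true]),
  ([true, false, false, false, false, false, false, false, false, false, false, true, true, true, true, false, false,
  false, false, false, false, false, false, false, false, true], [false, false, true, true, false, false, false,
  false, false, false, false, false, true, true, false, false, false, false, false, false, false, false, true, true,
  false, false]),
  ([true, false, false, false, false, false, false, false, false, false, true, false, true, true, false, true, false,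
  false, false, false, false, false, false, false, false, true], [false, true, false, false, false, true, false,
  false, false, false, false, false, true, true, false, false, false, false, false, false, true, false, false,
  false, true, false]),
  ([true, false, false, false, false, false, false, false, false, true, false, false, true, true, false, false, true,
  false, false, false, false, false, false, false, false, true], [true, false, false, false, false, false, false,
  false, false, true, false, false, true, true, false, false, true, false, false, false, false, false, false, false,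
  false, true])]

/-- the test -/
def tst (n : ℕ) (C : List (List Bool × List Bool)) (a b c d : ℕ) : Bool :=
  decide (a = 0 ∧ b = 0 ∧ c = 0 ∧ d = 0) || (decide (ct (zs SL n a b c d) ≠ ct (zs LL n a b c d)) ||
    decide ((zs SL n a b c d, zs LL n a b c d) ∈ C))

private noncomputable def cz (n a b c d : ℕ) (M : List (ℕ × ℕ × ℕ × ℕ)) : ℕ :=
  List.rec 0 (fun v _ ih => Prod.rec (fun x p => Prod.rec (fun y q => Prod.rec (fun z t => Bool.rec ih (Nat.succ ih)
    (Nat.beq (Nat.mod (Nat.add (Nat.add (Nat.add (Nat.mul x a) (Nat.mul y b)) (Nat.mul z c)) (Nat.mul t d)) n) 0)) q) p) v) M

private theorem cz_eq (n a b c d : ℕ) (M : List (ℕ × ℕ × ℕ × ℕ)) : ct (zs M n a b c d) = cz n a b c d M := by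
  induction M with
  | nil => rfl
  | cons v M ih =>
    obtain ⟨x, y, z, t⟩ := v
    change List.count true (((x * a + y * b + z * c + t * d) % n == 0) :: zs M n a b c d) =
      Bool.rec (cz n a b c d M) (Nat.succ (cz n a b c d M)) (Nat.beq ((x * a + y * b + z * c + t * d) % n) 0)
    rw [List.count_cons, ← ih]
    cases (x * a + y * b + z * c + t * d) % n <;> rfl

private noncomputable def zf (n a b c d : ℕ) (M : List (ℕ × ℕ × ℕ × ℕ)) : List Bool :=
  List.rec [] (fun v _ ih => Prod.rec (fun x p => Prod.rec (fun y q => Prod.rec (fun z t => List.cons
    (Nat.beq (Nat.mod (Nat.add (Nat.add (Nat.add (Nat.mul x a) (Nat.mul y b)) (Nat.mul z c)) (Nat.mul t d)) n) 0) ih) q) p) v) M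

private theorem zf_eq (n a b c d : ℕ) (M : List (ℕ × ℕ × ℕ × ℕ)) : zs M n a b c d = zf n a b c d M := by
  induction M with
  | nil => rfl
  | cons v M ih =>
    obtain ⟨x, y, z, t⟩ := v
    change ((x * a + y * b + z * c + t * d) % n == 0) :: zs M n a b c d =
      Nat.beq ((x * a + y * b + z * c + t * d) % n) 0 :: zf n a b c d M
    rw [ih]
    cases (x * a + y * b + z * c + t * d) % n <;> rfl

private noncomputable def eqB (u : List Bool) : List Bool → Bool :=
  List.rec (fun v => List.rec true (fun _ _ _ => false) v) (fun x _ ih v => List.rec false
    (fun y v' _ => Bool.rec (Bool.rec (ih v') false y) (Bool.rec false (ih v') y) x) v) u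

private theorem eqB_eq : ∀ u v : List Bool, eqB u v = true → u = v
  | [], [], _ => rfl
  | [], _ :: _, h => Bool.noConfusion h
  | _ :: _, [], h => Bool.noConfusion h
  | x :: u, y :: v, h => by
    cases x <;> cases y <;> first | exact Bool.noConfusion h | exact congrArg _ (eqB_eq u v h)

private noncomputable def memB (p q : List Bool) (C : List (List Bool × List Bool)) : Bool :=
  List.rec false (fun e _ ih => Prod.rec (fun u v => Bool.rec ih (Bool.rec ih true (eqB q v)) (eqB p u)) e) C

private theorem memB_mem {p q : List Bool} : ∀ C : List (List Bool × List Bool), memB p q C = true → (p, q) ∈ C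
  | [], h => Bool.noConfusion h
  | (u, v) :: C, h => by
    change (Bool.rec (memB p q C) (Bool.rec (memB p q C) true (eqB q v)) (eqB p u) : Bool) = true at h
    cases h1 : eqB p u
    · rw [h1] at h; exact List.mem_cons_of_mem _ (memB_mem C h)
    · cases h2 : eqB q v
      · rw [h1, h2] at h; exact List.mem_cons_of_mem _ (memB_mem C h)
      · rw [eqB_eq _ _ h1, eqB_eq _ _ h2]; exact List.mem_cons_self

private theorem tst_of {n k : ℕ} {C : List (List Bool × List Bool)} (h : ((List.range k).all fun a => (List.range k).all fun b =>
    (List.range k).all fun c => (List.range k).all fun d =>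
    Bool.rec true (memB (zf n a b c d SL) (zf n a b c d LL) C || decide (a = 0 ∧ b = 0 ∧ c = 0 ∧ d = 0))
      (Nat.beq (cz n a b c d SL) (cz n a b c d LL))) = true) : ((List.range k).all fun a => (List.range k).all fun b =>
    (List.range k).all fun c => (List.range k).all fun d => tst n C a b c d) = true := by
  simp only [List.all_eq_true] at h ⊢
  intro a ha b hb c hc d hd
  have h1 := h a ha b hb c hc d hd
  rw [tst, cz_eq, cz_eq, zf_eq, zf_eq]
  cases h2 : Nat.beq (cz n a b c d SL) (cz n a b c d LL)
  · rw [decide_eq_true (Nat.ne_of_beq_eq_false h2), Bool.true_or, Bool.or_true]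
  · rw [h2] at h1
    rcases Bool.or_eq_true_iff.1 h1 with h3 | h3
    · rw [decide_eq_true (memB_mem C h3), Bool.or_true, Bool.or_true]
    · rw [h3, Bool.true_or]

theorem tst_all3 : ((List.range 3).all fun a => (List.range 3).all fun b => (List.range 3).all fun c =>
    (List.range 3).all fun d => tst 3 A3 a b c d) = true :=
  tst_of (by decide +kernel)

theorem tst_all5 : ((List.range 5).all fun a => (List.range 5).all fun b => (List.range 5).all fun c =>
    (List.range 5).all fun d => tst 5 B5 a b c d) = true :=
  tst_of (by decide +kernel)

theorem compl3 {a b c d : ℕ} (ha : a < 3) (hb : b < 3) (hc : c < 3) (hd : d < 3) : (a = 0 ∧ b = 0 ∧ c = 0 ∧ d = 0) ∨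
    ct (zs SL 3 a b c d) ≠ ct (zs LL 3 a b c d) ∨ (zs SL 3 a b c d, zs LL 3 a b c d) ∈ A3 := by
  have h := tst_all3
  simp only [List.all_eq_true, List.mem_range] at h
  have h1 := h a ha b hb c hc d hd
  unfold tst at h1
  rw [Bool.or_eq_true, Bool.or_eq_true, decide_eq_true_eq, decide_eq_true_eq, decide_eq_true_eq] at h1
  exact h1

theorem compl5 {a b c d : ℕ} (ha : a < 5) (hb : b < 5) (hc : c < 5) (hd : d < 5) : (a = 0 ∧ b = 0 ∧ c = 0 ∧ d = 0) ∨
    ct (zs SL 5 a b c d) ≠ ct (zs LL 5 a b c d) ∨ (zs SL 5 a b c d, zs LL 5 a b c d) ∈ B5 := by
  have h := tst_all5
  simp only [List.all_eq_true, List.mem_range] at h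
  have h1 := h a ha b hb c hc d hd
  unfold tst at h1
  rw [Bool.or_eq_true, Bool.or_eq_true, decide_eq_true_eq, decide_eq_true_eq, decide_eq_true_eq] at h1
  exact h1

theorem pairs : ∀ p ∈ A3, ∀ q ∈ B5, ct (both p.1 q.1) ≠ ct (both p.2 q.2) := by
  decide +kernel

theorem zs_mod (M : List (ℕ × ℕ × ℕ × ℕ)) (n a b c d : ℕ) : zs M n a b c d = zs M n (a % n) (b % n) (c % n) (d % n) := by
  unfold zs
  refine List.map_congr_left fun v _ => ?_
  have h : ev v a b c d % n = ev v (a % n) (b % n) (c % n) (d % n) % n := by
    unfold ev
    simp only [Nat.add_mod, Nat.mul_mod, Nat.mod_mod]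
  rw [h]

theorem zs_fifteen (M : List (ℕ × ℕ × ℕ × ℕ)) (a b c d : ℕ) :
    zs M 15 a b c d = both (zs M 3 a b c d) (zs M 5 a b c d) := by
  unfold zs both
  rw [List.zipWith_map, List.zipWith_self]
  refine List.map_congr_left fun v _ => ?_
  generalize ev v a b c d = x
  rw [Bool.eq_iff_iff, Bool.and_eq_true, beq_iff_eq, beq_iff_eq, beq_iff_eq]
  (clear * -; solve | lia | omega)

/-- **The finite check.** -/
theorem fin_check {a b c d : ℕ} (h3 : ct (zs SL 3 a b c d) = ct (zs LL 3 a b c d))
    (h5 : ct (zs SL 5 a b c d) = ct (zs LL 5 a b c d)) (h15 : ct (zs SL 15 a b c d) = ct (zs LL 15 a b c d)) :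
    (3 ∣ a ∧ 3 ∣ b ∧ 3 ∣ c ∧ 3 ∣ d) ∨ (5 ∣ a ∧ 5 ∣ b ∧ 5 ∣ c ∧ 5 ∣ d) := by
  have m3 : ∀ x : ℕ, x % 3 < 3 := fun x => Nat.mod_lt _ (by norm_num)
  have m5 : ∀ x : ℕ, x % 5 < 5 := fun x => Nat.mod_lt _ (by norm_num)
  have g3 := compl3 (m3 a) (m3 b) (m3 c) (m3 d)
  have g5 := compl5 (m5 a) (m5 b) (m5 c) (m5 d)
  rw [← zs_mod, ← zs_mod] at g3 g5
  rcases g3 with g | g | g3
  · left; omega
  · exact absurd h3 g
  rcases g5 with g | g | g5
  · right; omega
  · exact absurd h5 g
  have h := pairs _ g3 _ g5
  rw [zs_fifteen, zs_fifteen] at h15
  exact absurd h15 h

/-- counting in a list -/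
theorem ct_map {α : Type*} (l : List α) (f : α → Bool) :
    ct (l.map f) = (Finset.univ.filter (fun i : Fin l.length => f (l.get i) = true)).card := by
  unfold ct
  induction l with
  | nil => rfl
  | cons x l ih =>
    rw [List.map_cons, List.count_cons, ih]
    have h := Fin.card_filter_univ_succ' (fun i : Fin (l.length + 1) => f ((x :: l).get i) = true)
    rw [add_comm]
    refine Eq.trans ?_ h.symm
    congr 1
    cases h0 : f x <;> simp [h0]

end Cfsg.Agent.H343.PG.Ff
end

-- part: H343/PG/TwF4Fifteen
section
/-!
# `²F₄(q)` has no elements of order 15 (helper343, for S3635)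

`x` of order prime to 2, fixed by the endomorphism `ste`: `x` is conjugate to a torus element `t` over an algebraic
closure, and `ste t` is conjugate to `t`. The action on the ideal of dimension 26 (in characteristic 2) shows that as many
short roots as long roots take the value 1 at `t`. This holds for `t`, `t ^ 3`, `t ^ 5`, which is impossible for `t` of
order 15 (`Ff.fin_check`).
-/

set_option autoImplicit false
set_option linter.unusedSectionVars false

namespace Cfsg.Agent.H343.PG.TwF4Fifteen

open CoxeterSystem Cfsg Cfsg.Lie Cfsg.Lie.ChevalleyDatum
open Cfsg.Agent.ChevalleyStructure Cfsg.Agent.ChevalleyStructure.Elts Cfsg.Agent.ChevalleyStructure.CoxeterGeom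
  Cfsg.Agent.ChevalleyStructure.CoxeterGeomTypes Cfsg.Agent.ChevalleyStructure.NPerm
open Cfsg.Agent.Tits.Roots Cfsg.Agent.Tits.Core Cfsg.Agent.Nodes Cfsg.Agent.Nodes.Reps Cfsg.Agent.Nodes.BNOf
  Cfsg.Agent.Nodes.RGDChev
open Cfsg.Agent.KFacts.RgdField Cfsg.Agent.KFacts.RgdChevCoord Cfsg.Agent.BpExc.TorCent Cfsg.Agent.BpExc.TorChev
open Cfsg.Agent.GpExc.Field Cfsg.Agent.BpExc.Tow Cfsg.Agent.BpExc.TowChev
  Cfsg.Agent.BpExc.LangFr Cfsg.Agent.BpExc Cfsg.Agent.H129.TorusChar Cfsg.Agent.H129
open Cfsg.Agent.ChevalleyStructure.TwF4.Fix (isLong io ro Amat Cmat)
open Cfsg.Agent.H493.F4End Cfsg.Agent.H493.F4Fix Cfsg.Agent.H493.F4Tor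
open Cfsg.Agent.H343.PG.Ff
open Cfsg.Agent.BpExc.TorAll (HAlg)

universe u

/-- the weight of a basis vector -/
def Wv : chevF4.Idx → (Fin 4 → ℤ)
  | Sum.inl _ => 0
  | Sum.inr s => vec chevF4 4 s

/-- the image of the weight -/
def Wb : chevF4.Idx → (Fin 4 → ℤ)
  | Sum.inl _ => 0
  | Sum.inr s => vec chevF4 4 (TwF4.Rel.bar s)

theorem charpoly_hom {G : Type*} [Group G] {n : Type*} [Fintype n] [DecidableEq n] {R : Type*} [CommRing R]
    (f : G →* (Matrix n n R)ˣ) (g x : G) :
    ((f (g * x * g⁻¹) : (Matrix n n R)ˣ) : Matrix n n R).charpoly = ((f x : (Matrix n n R)ˣ) : Matrix n n R).charpoly := by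
  rw [map_mul, map_mul, map_inv, Units.val_mul, Units.val_mul]
  rw [Matrix.charpoly_mul_comm, ← mul_assoc, Units.inv_mul, one_mul]

section Alg

variable {k : Type u} [Field k] [IsAlgClosed k] [CharP k 2]

theorem nroots : chevF4.nroots = 48 := by decide +kernel

/-- the matrix of a torus element -/
theorem mt_TT {t : ↥(chevF4.group k)} (ht : t ∈ TT chevF4 k) : _root_.Cfsg.Agent.H493.F4Fix.mt t = Matrix.diagonal (fun i => cX hp t (Wv i)) := by
  have ht' := ht
  rw [Subgroup.mem_subgroupOf] at ht'
  obtain ⟨c, hc, hm, hact⟩ := Tor.exists_c hp ht'
  have key : ∀ s, s < chevF4.nroots → ch hp (vec chevF4 4 s) t = ∏ i ∈ Finset.range chevF4.rank, c i ^ chevF4.cartan i s := by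
    intro s hs
    apply ch_eq hp hs ht
    apply Subtype.ext
    rw [Subgroup.coe_mul, Subgroup.coe_mul, Subgroup.coe_inv, coe_xc hp hs, coe_xc hp hs, hact s hs, mul_one]
  refine hm.trans ?_
  congr 1
  funext i
  rcases i with i | s
  · exact ((isMC_cX hp ht).zero).symm
  · show _ = cX hp t (vec chevF4 4 s)
    rw [cX_vec hp ht s.2, key _ s.2]
    rfl

theorem io_inj : Function.Injective io := by
  have h : ∀ a b : Fin 26, io a = io b → a = b := by decide +kernel
  exact fun a b => h a b

theorem Amat_TT {t : ↥(chevF4.group k)} (ht : t ∈ TT chevF4 k) :
    Amat (_root_.Cfsg.Agent.H493.F4Fix.mt t) = Matrix.diagonal (fun a => cX hp t (Wv (io a))) := by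
  rw [mt_TT ht]
  exact Matrix.submatrix_diagonal _ _ io_inj

theorem charpoly_conj (g x : ↥(chevF4.group k)) : (Amat (_root_.Cfsg.Agent.H493.F4Fix.mt (g * x * g⁻¹))).charpoly = (Amat (_root_.Cfsg.Agent.H493.F4Fix.mt x)).charpoly :=
  charpoly_hom (iA k) g x

theorem charpoly_TT {t : ↥(chevF4.group k)} (ht : t ∈ TT chevF4 k) :
    (Amat (_root_.Cfsg.Agent.H493.F4Fix.mt t)).charpoly.roots = Finset.univ.val.map (fun a => cX hp t (Wv (io a))) := by
  rw [Amat_TT ht, Matrix.charpoly_diagonal]
  have h := Polynomial.roots_multiset_prod_X_sub_C (Finset.univ.val.map (fun a : Fin 26 => cX hp t (Wv (io a))))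
  rw [Multiset.map_map] at h
  exact h

open Classical in
/-- conjugate torus elements have the same number of trivial weights -/
theorem card_conj {t t' : ↥(chevF4.group k)} (ht : t ∈ TT chevF4 k) (ht' : t' ∈ TT chevF4 k) {g : ↥(chevF4.group k)}
    (h : t' = g * t * g⁻¹) : (Finset.univ.filter (fun a : Fin 26 => cX hp t (Wv (io a)) = 1)).card =
      (Finset.univ.filter (fun a : Fin 26 => cX hp t' (Wv (io a)) = 1)).card := by
  have h1 := charpoly_TT ht'
  rw [h, charpoly_conj, charpoly_TT ht] at h1
  have h2 := congrArg (Multiset.count 1) h1
  rw [Multiset.count_map, Multiset.count_map] at h2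
  have e : ∀ s : ↥(chevF4.group k), (Finset.univ.filter (fun a : Fin 26 => cX hp s (Wv (io a)) = 1)).card =
      (Multiset.filter (fun a : Fin 26 => 1 = cX hp s (Wv (io a))) Finset.univ.val).card := by
    intro s
    rw [Finset.card_def, Finset.filter_val]
    congr 1
    exact Multiset.filter_congr fun a _ => eq_comm
  rw [e, e, h2, h]

theorem pow_ex {m r : ℕ} (hr : r < 48) {z : k} : z ^ ex m r = 1 ↔ z = 1 := by
  constructor
  · intro h
    have h1 : z ^ 2 ^ (2 * m + 1) = 1 := by rw [← ex_bar hr, pow_mul, h, one_pow]
    have : ExpChar k 2 := ExpChar.prime Nat.prime_two
    have h2 := (ExpChar.pow_prime_pow_mul_eq_one_iff 2 (2 * m + 1) 1 z).1 (by rw [mul_one]; exact h1)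
    rwa [pow_one] at h2
  · rintro rfl
    exact one_pow _

theorem cX_ste_iff (m : ℕ) {t : ↥(chevF4.group k)} (ht : t ∈ TT chevF4 k) (i : chevF4.Idx) :
    cX hp (ste k m t) (Wv i) = 1 ↔ cX hp t (Wb i) = 1 := by
  rcases i with i | s
  · show cX hp (ste k m t) 0 = 1 ↔ cX hp t 0 = 1
    rw [(isMC_cX hp ht).zero, (isMC_cX hp (ste_TT ht)).zero]
  · have hs : (s : ℕ) < 48 := lt_of_lt_of_eq s.2 nroots
    have hb := TwF4.Fix.bar_lt s hs
    show cX hp (ste k m t) (vec chevF4 4 s) = 1 ↔ cX hp t (vec chevF4 4 (TwF4.Rel.bar s)) = 1
    rw [cX_vec hp (ste_TT ht) s.2, cX_vec hp ht (lt_of_lt_of_eq hb nroots.symm)]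
    have h := ch_ste m ht hb
    rw [bar_bar hs] at h
    rw [h, pow_ex hb]

open Classical in
/-- **As many short as long weights are trivial.** -/
theorem card_eq {m : ℕ} {t g : ↥(chevF4.group k)} (ht : t ∈ TT chevF4 k) (h : ste k m t = g * t * g⁻¹) :
    (Finset.univ.filter (fun a : Fin 26 => cX hp t (Wv (io a)) = 1)).card =
      (Finset.univ.filter (fun a : Fin 26 => cX hp t (Wb (io a)) = 1)).card := by
  rw [card_conj ht (ste_TT ht) h]
  (with_reducible congr 1)
  refine Finset.filter_congr fun a _ => ?_
  exact cX_ste_iff m ht (io a)

/-! ### the tables -/

/-- the coordinates -/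
def comp (v : ℕ × ℕ × ℕ × ℕ) : Fin 4 → ℕ := ![v.1, v.2.1, v.2.2.1, v.2.2.2]

theorem tabS : ∀ a : Fin 26, ∀ j : Fin 4, (15 : ℤ) ∣ Wv (io a) j - (comp (SL.get a) j : ℤ) := by
  decide +kernel

theorem tabL : ∀ a : Fin 26, ∀ j : Fin 4, (15 : ℤ) ∣ Wb (io a) j - (comp (LL.get a) j : ℤ) := by
  decide +kernel

theorem cX_eq {ζ : k} (hζ : ζ ^ 15 = 1) {t : ↥(chevF4.group k)} {e : Fin 4 → ℕ} (he : ∀ j, ch hp (sr j) t = ζ ^ e j)
    {x : Fin 4 → ℤ} {v : ℕ × ℕ × ℕ × ℕ} (h : ∀ j, (15 : ℤ) ∣ x j - (comp v j : ℤ)) :
    cX hp t x = ζ ^ ev v (e 0) (e 1) (e 2) (e 3) := by
  have hζ0 : ζ ≠ 0 := by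
    rintro rfl
    rw [zero_pow (by norm_num)] at hζ
    exact zero_ne_one hζ
  have key : ∀ j, ch hp (sr j) t ^ x j = ζ ^ (comp v j * e j) := by
    intro j
    obtain ⟨z, hz⟩ := h j
    have hx : x j = (comp v j : ℤ) + 15 * z := by linarith
    have h15 : (ζ ^ e j) ^ (15 : ℤ) = 1 := by
      have : (15 : ℤ) = ((15 : ℕ) : ℤ) := rfl
      rw [this, zpow_natCast, ← pow_mul, mul_comm, pow_mul, hζ, one_pow]
    rw [he, hx, zpow_add₀ (pow_ne_zero _ hζ0), zpow_mul, h15, one_zpow, mul_one, zpow_natCast, ← pow_mul, mul_comm]
  unfold cX
  rw [Finset.prod_congr rfl fun j _ => key j, Finset.prod_pow_eq_pow_sum, Fin.sum_univ_four]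
  rfl

theorem card_list {q : Fin 26 → Prop} [DecidablePred q] {M : List (ℕ × ℕ × ℕ × ℕ)} (hM : M.length = 26) {n a b c d : ℕ}
    (h : ∀ i : Fin 26, q i ↔ ev (M.get (Fin.cast hM.symm i)) a b c d % n = 0) :
    (Finset.univ.filter q).card = ct (zs M n a b c d) := by
  unfold zs
  rw [ct_map]
  refine Finset.card_bij (fun i _ => Fin.cast hM.symm i) ?_ ?_ ?_
  · intro i hi
    rw [Finset.mem_filter] at hi ⊢
    exact ⟨Finset.mem_univ _, beq_iff_eq.2 ((h i).1 hi.2)⟩
  · intro i _ j _ hij
    exact Fin.cast_injective _ hij
  · intro i hi
    rw [Finset.mem_filter] at hi
    refine ⟨Fin.cast hM i, ?_, rfl⟩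
    rw [Finset.mem_filter]
    exact ⟨Finset.mem_univ _, (h _).2 (beq_iff_eq.1 hi.2)⟩

/-- **No torus element of order 15.** -/
theorem no_torus {m : ℕ} {t g : ↥(chevF4.group k)} (ht : t ∈ TT chevF4 k) (h : ste k m t = g * t * g⁻¹)
    (ho : orderOf t = 15) : False := by
  classical
  have h2 : (2 : k) = 0 := CharTwo.two_eq_zero
  have : NeZero ((15 : ℕ) : k) := ⟨by
    have e : ((15 : ℕ) : k) = 2 * 7 + 1 := by push_cast; norm_num
    rw [e, h2, zero_mul, zero_add]
    exact one_ne_zero⟩
  obtain ⟨ζ, hζ⟩ : ∃ ζ : k, IsPrimitiveRoot ζ 15 := HasEnoughRootsOfUnity.exists_primitiveRoot k 15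
  have ht15 : t ^ 15 = 1 := by rw [← ho, pow_orderOf_eq_one]
  have hex : ∀ j : Fin 4, ∃ a : ℕ, ch hp (sr j) t = ζ ^ a := by
    intro j
    have h1 : ch hp (sr j) t ^ 15 = 1 := by
      rw [← cX_sr hp, ← cX_pow hp ht, ht15, cX_one]
    obtain ⟨a, -, ha⟩ := hζ.eq_pow_of_pow_eq_one h1
    exact ⟨a, ha.symm⟩
  choose e he using hex
  -- the powers
  have hpow : ∀ n : ℕ, (Finset.univ.filter (fun a : Fin 26 => cX hp (t ^ n) (Wv (io a)) = 1)).card =
      (Finset.univ.filter (fun a : Fin 26 => cX hp (t ^ n) (Wb (io a)) = 1)).card := by
    intro n
    refine card_eq (m := m) (g := g) (pow_mem ht n) ?_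
    rw [map_pow, h, conj_pow]
  have hS : ∀ n (a : Fin 26), cX hp (t ^ n) (Wv (io a)) = 1 ↔
      15 ∣ ev (SL.get a) (e 0) (e 1) (e 2) (e 3) * n := by
    intro n a
    rw [cX_pow hp ht, cX_eq hζ.pow_eq_one he (tabS a), ← pow_mul, hζ.pow_eq_one_iff_dvd]
  have hL : ∀ n (a : Fin 26), cX hp (t ^ n) (Wb (io a)) = 1 ↔
      15 ∣ ev (LL.get a) (e 0) (e 1) (e 2) (e 3) * n := by
    intro n a
    rw [cX_pow hp ht, cX_eq hζ.pow_eq_one he (tabL a), ← pow_mul, hζ.pow_eq_one_iff_dvd]
  have main : ∀ n d : ℕ, (∀ x : ℕ, 15 ∣ x * n ↔ x % d = 0) →
      ct (zs SL d (e 0) (e 1) (e 2) (e 3)) = ct (zs LL d (e 0) (e 1) (e 2) (e 3)) := by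
    intro n d hnd
    have h1 := hpow n
    rw [card_list (M := SL) rfl (n := d) (a := e 0) (b := e 1) (c := e 2) (d := e 3)
      fun i => (hS n i).trans (hnd _), card_list (M := LL) rfl (n := d) (a := e 0) (b := e 1) (c := e 2) (d := e 3)
      fun i => (hL n i).trans (hnd _)] at h1
    exact h1
  have c3 := main 5 3 (fun x => by omega)
  have c5 := main 3 5 (fun x => by omega)
  have c15 := main 1 15 (fun x => by omega)
  have hdv : ∀ n d : ℕ, n * d = 15 → (∀ j : Fin 4, d ∣ e j) → t ^ n = 1 := by
    intro n d hnd hj
    refine cX_inj hp (pow_mem ht n) (one_mem _) fun j => ?_
    obtain ⟨c, hc⟩ := hj j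
    rw [cX_pow hp ht, cX_one, cX_sr, he, ← pow_mul, hc, show d * c * n = n * d * c by ring, hnd, pow_mul,
      hζ.pow_eq_one, one_pow]
  rcases fin_check c3 c5 c15 with h3 | h5
  · have h6 := hdv 5 3 rfl (fun j => by
      fin_cases j
      · exact h3.1
      · exact h3.2.1
      · exact h3.2.2.1
      · exact h3.2.2.2)
    have h7 := orderOf_dvd_of_pow_eq_one h6
    rw [ho] at h7
    omega
  · have h6 := hdv 3 5 rfl (fun j => by
      fin_cases j
      · exact h5.1
      · exact h5.2.1
      · exact h5.2.2.1
      · exact h5.2.2.2)
    have h7 := orderOf_dvd_of_pow_eq_one h6
    rw [ho] at h7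
    omega

end Alg

section Fin

variable {K : Type u} [Field K] [Fintype K] {m : ℕ}

/-- every element of an algebraic closure of a finite field lies in a finite field -/
theorem hAlg_closure (p : ℕ) [Fact p.Prime] (F : Type u) [Field F] [Finite F] [CharP F p] :
    HAlg p (AlgebraicClosure F) := by
  intro a
  have hint : IsIntegral F a := (Algebra.IsAlgebraic.isAlgebraic a).isIntegral
  have hfd : FiniteDimensional F (IntermediateField.adjoin F {a}) := IntermediateField.adjoin.finiteDimensional hint
  have hfin : Finite (IntermediateField.adjoin F {a}) := Module.finite_of_finite F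
  have : Fintype (IntermediateField.adjoin F {a}) := Fintype.ofFinite _
  have hch : CharP (IntermediateField.adjoin F {a}) p := charP_of_injective_algebraMap
    (algebraMap F (IntermediateField.adjoin F {a})).injective p
  obtain ⟨⟨m, hm⟩, hp', hcard⟩ := FiniteField.card (IntermediateField.adjoin F {a}) p
  have h1 := FiniteField.pow_card (⟨a, IntermediateField.mem_adjoin_simple_self F a⟩ :
    IntermediateField.adjoin F {a})
  rw [hcard] at h1
  exact ⟨m, hm, congrArg Subtype.val h1⟩

open Cfsg.Agent.ChevalleyStructure.TwF4.TwistedFix in
/-- **`²F₄(q)` has no elements of order 15.** -/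
theorem not_exists_fifteen (hK : Fintype.card K = 2 ^ (2 * m + 1)) :
    ¬ ∃ x : ↥(twistedF4 K (2 ^ m)), orderOf x = 15 := by
  rintro ⟨x, hx⟩
  have : Fact (Nat.Prime 2) := ⟨Nat.prime_two⟩
  have hc2 : CharP K 2 := F4Fixed.charP_two hK
  obtain ⟨φ, hφ⟩ := exists_rln hK
  have hkch : CharP (AlgebraicClosure K) 2 := charP_of_injective_algebraMap (algebraMap K (AlgebraicClosure K)).injective 2
  have hk : HAlg 2 (AlgebraicClosure K) := hAlg_closure 2 K
  set! x1 : ↥(chevF4.group K) := ⟨(x : GL chevF4.Idx K), SuzT.twisted_le K m x.2⟩ with hx1
  have ho1 : orderOf x1 = 15 := by
    rw [← hx, ← Subgroup.orderOf_coe x1, ← Subgroup.orderOf_coe x]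
  have hs1 : ste K m x1 = x1 := SuzT.ste_of_twisted hφ x.2
  set! x2 : ↥(chevF4.group (AlgebraicClosure K)) := emb Cfsg.Agent.H493.F4End.hD (algebraMap K (AlgebraicClosure K)) x1 with hx2
  have ho2 : orderOf x2 = 15 := by
    rw [← ho1]
    exact orderOf_injective _ (emb_injective _ _) x1
  have hs2 : ste (AlgebraicClosure K) m x2 = x2 := by
    rw [hx2, ← emb_ste, hs1]
  obtain ⟨g, hg⟩ := Cfsg.Agent.H944.TorAnyChev.exists_conj_mem_TT hp 2 hk (q := 15) (by norm_num) (by decide)
    (by rw [← ho2, pow_orderOf_eq_one] : x2 ^ 15 = 1)
  refine no_torus (m := m) (g := ste (AlgebraicClosure K) m g * g⁻¹) hg ?_ ?_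
  · rw [map_mul, map_mul, map_inv, hs2]
    group
  · rw [← ho2]
    exact orderOf_injective (MulAut.conj g).toMonoidHom (MulAut.conj g).injective x2

end Fin

end Cfsg.Agent.H343.PG.TwF4Fifteen
end
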